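import Mathlib
import Cfsg.Agent.Lib.RankOne.Involution

/-!
# The order formula for a four-group acting on a group of odd order

If commuting involutions `x`, `y` normalise `H` of odd order, then
`|H| * |C_H(x) ∩ C_H(y)| ^ 2 = |C_H(x)| * |C_H(y)| * |C_H(x * y)|`.
-/

set_option autoImplicit false
set_option linter.unusedSectionVars false

namespace Cfsg.Agent.Lib.BC77.Hall4

open Cfsg.Agent.Lib.RankOne.Involution

variable {G : Type*} [Group G] [Finite G]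

/-- The elements of `H` commuting with `t`. -/
def fx (t : G) (H : Subgroup G) : Subgroup G := H ⊓ Subgroup.centralizer {t}

/-- The elements of `H` inverted by `t`. -/
def ix (t : G) (H : Subgroup G) : Set G := {h | h ∈ H ∧ t * h * t⁻¹ = h⁻¹}

theorem mem_fx {t : G} {H : Subgroup G} {h : G} : h ∈ fx t H ↔ h ∈ H ∧ t * h = h * t := by
  rw [fx, Subgroup.mem_inf, Subgroup.mem_centralizer_singleton_iff]; tauto

theorem conj_eq_iff {t h : G} : t * h * t⁻¹ = h ↔ t * h = h * t := by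
  rw [mul_inv_eq_iff_eq_mul]

theorem card_decomp {H : Subgroup G} (hodd : Odd (Nat.card H)) {t : G} (ht : t * t = 1)
    (hn : ∀ h ∈ H, t * h * t⁻¹ ∈ H) :
    Nat.card H = Nat.card (fx t H) * Nat.card (ix t H) := by
  rw [← Nat.card_prod]
  refine (Nat.card_eq_of_bijective
    (fun p : fx t H × ix t H => (⟨p.1.1 * p.2.1,
      H.mul_mem (mem_fx.mp p.1.2).1 p.2.2.1⟩ : H)) ⟨?_, ?_⟩).symm
  · rintro ⟨⟨c, hc⟩, ⟨i, hi⟩⟩ ⟨⟨c', hc'⟩, ⟨i', hi'⟩⟩ h
    have h' : c * i = c' * i' := congrArg Subtype.val h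
    obtain ⟨h1, h2⟩ := decomp_unique hodd hi.1 hi'.1
      (conj_eq_iff.mpr (mem_fx.mp hc).2) (conj_eq_iff.mpr (mem_fx.mp hc').2) hi.2 hi'.2 h'
    simp [h1, h2]
  · rintro ⟨g, hg⟩
    obtain ⟨c, hc, i, hi, hct, hit, rfl⟩ := exists_decomp hodd ht hn hg
    exact ⟨⟨⟨c, mem_fx.mpr ⟨hc, conj_eq_iff.mp hct⟩⟩, ⟨i, hi, hit⟩⟩, rfl⟩

theorem card_mid {H : Subgroup G} (hodd : Odd (Nat.card H)) {x y : G} (hx : x * x = 1)
    (hy : y * y = 1) (hxy : x * y = y * x) (hnx : ∀ h ∈ H, x * h * x⁻¹ ∈ H)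
    (hny : ∀ h ∈ H, y * h * y⁻¹ ∈ H) :
    Nat.card (ix x H)
      = Nat.card ↥{h | h ∈ H ∧ x * h * x⁻¹ = h⁻¹ ∧ y * h * y⁻¹ = h⁻¹}
        * Nat.card ↥{h | h ∈ H ∧ x * h * x⁻¹ = h⁻¹ ∧ y * h * y⁻¹ = h} := by
  rw [← Nat.card_prod]
  have hxm : ∀ a b : G, x * (a * b) * x⁻¹ = (x * a * x⁻¹) * (x * b * x⁻¹) := fun a b =>
    map_mul (MulAut.conj x) a b
  have hym : ∀ a b : G, y * (a * b) * y⁻¹ = (y * a * y⁻¹) * (y * b * y⁻¹) := fun a b =>
    map_mul (MulAut.conj y) a b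
  have hxi : ∀ a : G, x * a⁻¹ * x⁻¹ = (x * a * x⁻¹)⁻¹ := fun a =>
    map_inv (MulAut.conj x) a
  have hyi : ∀ a : G, y * a⁻¹ * y⁻¹ = (y * a * y⁻¹)⁻¹ := fun a =>
    map_inv (MulAut.conj y) a
  have hswap : ∀ a : G, x * (y * a * y⁻¹) * x⁻¹ = y * (x * a * x⁻¹) * y⁻¹ := fun a => by
    calc x * (y * a * y⁻¹) * x⁻¹ = (x * y) * a * (x * y)⁻¹ := by group
      _ = (y * x) * a * (y * x)⁻¹ := by rw [hxy]
      _ = y * (x * a * x⁻¹) * y⁻¹ := by group
  have hyy : ∀ a : G, y * (y * a * y⁻¹) * y⁻¹ = a := fun a => by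
    calc y * (y * a * y⁻¹) * y⁻¹ = (y * y) * a * (y * y)⁻¹ := by group
      _ = a := by rw [hy]; group
  -- uniqueness of the solution of `J * t * J = i`
  have huniq : ∀ J J' t : G, J ∈ H → J' ∈ H → t ∈ H → J * t * J = J' * t * J' → J = J' := by
    intro J J' t hJ hJ' ht h
    have : t * J = t * J' := eq_of_sq_eq hodd (H.mul_mem ht hJ) (H.mul_mem ht hJ') (by
      calc t * J * (t * J) = t * (J * t * J) := by group
        _ = t * (J' * t * J') := by rw [h]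
        _ = t * J' * (t * J') := by group)
    exact mul_left_cancel this
  refine (Nat.card_eq_of_bijective
    (fun p : ↥{h | h ∈ H ∧ x * h * x⁻¹ = h⁻¹ ∧ y * h * y⁻¹ = h⁻¹} ×
        ↥{h | h ∈ H ∧ x * h * x⁻¹ = h⁻¹ ∧ y * h * y⁻¹ = h} =>
      (⟨p.1.1 * p.2.1 * p.1.1, H.mul_mem (H.mul_mem p.1.2.1 p.2.2.1) p.1.2.1, by
        rw [hxm, hxm, p.1.2.2.1, p.2.2.2.1]; group⟩ : ix x H)) ⟨?_, ?_⟩).symm
  · rintro ⟨⟨j, hj⟩, ⟨k, hk⟩⟩ ⟨⟨j', hj'⟩, ⟨k', hk'⟩⟩ h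
    have h' : j * k * j = j' * k' * j' := congrArg Subtype.val h
    have ht : j⁻¹ * k * j⁻¹ = j'⁻¹ * k' * j'⁻¹ := by
      have := congrArg (fun a => y * a * y⁻¹) h'
      simpa only [hym, hj.2.2, hk.2.2, hj'.2.2, hk'.2.2] using this
    have hjj : j * j = j' * j' := by
      refine huniq _ _ (j⁻¹ * k * j⁻¹) (H.mul_mem hj.1 hj.1) (H.mul_mem hj'.1 hj'.1)
        (H.mul_mem (H.mul_mem (H.inv_mem hj.1) hk.1) (H.inv_mem hj.1)) ?_
      calc j * j * (j⁻¹ * k * j⁻¹) * (j * j) = j * k * j := by group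
        _ = j' * k' * j' := h'
        _ = j' * j' * (j'⁻¹ * k' * j'⁻¹) * (j' * j') := by group
        _ = j' * j' * (j⁻¹ * k * j⁻¹) * (j' * j') := by rw [ht]
    have hjeq := eq_of_sq_eq hodd hj.1 hj'.1 hjj
    subst hjeq
    have : k = k' := mul_left_cancel (mul_right_cancel h')
    subst this
    rfl
  · rintro ⟨i, hiH, hix⟩
    set t := y * i * y⁻¹ with ht
    have htH : t ∈ H := hny i hiH
    have htx : x * t * x⁻¹ = t⁻¹ := by rw [ht, hswap, hix, hyi]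
    obtain ⟨s, hsH, hs, -⟩ := exists_sqrt hodd (H.mul_mem htH hiH)
    set J := t⁻¹ * s with hJdef
    have hJH : J ∈ H := H.mul_mem (H.inv_mem htH) hsH
    have hJ : J * t * J = i := by
      calc J * t * J = t⁻¹ * (s * s) := by rw [hJdef]; group
        _ = i := by rw [hs]; group
    have hJx : x * J * x⁻¹ = J⁻¹ := by
      have hJ'H : x * J * x⁻¹ ∈ H := hnx J hJH
      have e : (x * J * x⁻¹) * t⁻¹ * (x * J * x⁻¹) = i⁻¹ := by
        rw [← htx, ← hxm, ← hxm, hJ, hix]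
      have e2 : (x * J * x⁻¹)⁻¹ * t * (x * J * x⁻¹)⁻¹ = i := by
        have := congrArg (fun a => a⁻¹) e
        simpa only [mul_inv_rev, inv_inv, ← mul_assoc] using this
      have := huniq _ _ t (H.inv_mem hJ'H) hJH htH (e2.trans hJ.symm)
      exact inv_eq_iff_eq_inv.mp this
    have hJy : y * J * y⁻¹ = J⁻¹ := by
      have hJ'H : y * J * y⁻¹ ∈ H := hny J hJH
      have e : (y * J * y⁻¹) * i * (y * J * y⁻¹) = t := by
        have e0 : y * (J * t * J) * y⁻¹ = y * i * y⁻¹ := by rw [hJ]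
        rw [hym, hym, ht, hyy] at e0
        exact e0
      have e2 : (y * J * y⁻¹)⁻¹ * t * (y * J * y⁻¹)⁻¹ = i := by rw [← e]; group
      have := huniq _ _ t (H.inv_mem hJ'H) hJH htH (e2.trans hJ.symm)
      exact inv_eq_iff_eq_inv.mp this
    obtain ⟨j, hjH, hjj, k, hjk⟩ := exists_sqrt hodd hJH
    have hjx : x * j * x⁻¹ = j⁻¹ := by
      rw [hjk, ← conj_pow, hJx, inv_pow]
    have hjy : y * j * y⁻¹ = j⁻¹ := by
      rw [hjk, ← conj_pow, hJy, inv_pow]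
    refine ⟨⟨⟨j, hjH, hjx, hjy⟩, ⟨j⁻¹ * i * j⁻¹, H.mul_mem (H.mul_mem (H.inv_mem hjH) hiH)
      (H.inv_mem hjH), ?_, ?_⟩⟩, ?_⟩
    · rw [hxm, hxm, hxi, hjx, hix]; group
    · rw [hym, hym, hyi, hjy, inv_inv, ← ht]
      calc j * t * j = j⁻¹ * (j * j * t * (j * j)) * j⁻¹ := by group
        _ = j⁻¹ * i * j⁻¹ := by rw [hjj, hJ]
    · apply Subtype.ext
      show j * (j⁻¹ * i * j⁻¹) * j = i
      group

theorem card_four {H : Subgroup G} (hodd : Odd (Nat.card H)) {x y : G} (hx : x * x = 1)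
    (hy : y * y = 1) (hxy : x * y = y * x) (hnx : ∀ h ∈ H, x * h * x⁻¹ ∈ H)
    (hny : ∀ h ∈ H, y * h * y⁻¹ ∈ H) :
    Nat.card H * Nat.card ↥(fx x H ⊓ fx y H) ^ 2
      = Nat.card (fx x H) * Nat.card (fx y H) * Nat.card (fx (x * y) H) := by
  set c := Nat.card ↥(fx x H ⊓ fx y H)
  have hodd' : ∀ t : G, Odd (Nat.card (fx t H)) := fun t =>
    hodd.of_dvd_nat (Subgroup.card_dvd_of_le inf_le_left)
  -- an involution commuting with `t` normalises `fx t H`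
  have hnorm : ∀ s t : G, s * t = t * s → (∀ h ∈ H, s * h * s⁻¹ ∈ H) →
      ∀ h ∈ fx t H, s * h * s⁻¹ ∈ fx t H := by
    intro s t hst hns h hh
    obtain ⟨h1, h2⟩ := mem_fx.mp hh
    refine mem_fx.mpr ⟨hns h h1, ?_⟩
    calc t * (s * h * s⁻¹) = (t * s) * h * s⁻¹ := by group
      _ = (s * t) * h * s⁻¹ := by rw [hst]
      _ = s * (t * h) * s⁻¹ := by group
      _ = s * (h * t) * s⁻¹ := by rw [h2]
      _ = s * h * (t * s⁻¹) := by group
      _ = s * h * (s⁻¹ * t) := by rw [show Commute t s⁻¹ from (Commute.inv_right hst.symm)]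
      _ = s * h * s⁻¹ * t := by group
  have hz : x * (x * y) = x * y * x := by
    calc x * (x * y) = x * (y * x) := by rw [← hxy]
      _ = x * y * x := (mul_assoc _ _ _).symm
  have e1 := card_decomp hodd hx hnx
  have e2 := card_decomp (hodd' y) hx (hnorm x y hxy hnx)
  have e3 := card_decomp (hodd' x) hy (hnorm y x hxy.symm hny)
  have e4 := card_decomp (hodd' (x * y)) hx (hnorm x (x * y) hz hnx)
  have e5 := card_mid hodd hx hy hxy hnx hny
  have c2 : fx x (fx y H) = fx x H ⊓ fx y H := by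
    ext h; simp only [fx, Subgroup.mem_inf]; tauto
  have c3 : fx y (fx x H) = fx x H ⊓ fx y H := by
    ext h; simp only [fx, Subgroup.mem_inf]; tauto
  have c4 : fx x (fx (x * y) H) = fx x H ⊓ fx y H := by
    ext h
    simp only [mem_fx, Subgroup.mem_inf]
    constructor
    · rintro ⟨⟨hH, h1⟩, h2⟩
      refine ⟨⟨hH, h2⟩, hH, ?_⟩
      calc y * h = (x * x) * (y * h) := by rw [hx, one_mul]
        _ = x * (x * y * h) := by group
        _ = x * (h * (x * y)) := by rw [h1]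
        _ = x * h * x * y := by group
        _ = h * x * x * y := by rw [h2]
        _ = h * y := by rw [mul_assoc h x x, hx, mul_one]
    · rintro ⟨⟨hH, h1⟩, -, h2⟩
      exact ⟨⟨hH, (show Commute (x * y) h from Commute.mul_left h1 h2)⟩, h1⟩
  have s2 : ix x (fx y H) = {h | h ∈ H ∧ x * h * x⁻¹ = h⁻¹ ∧ y * h * y⁻¹ = h} := by
    ext h
    simp only [ix, Set.mem_ofPred_eq, mem_fx, conj_eq_iff]
    tauto
  have s4 : ix x (fx (x * y) H) = {h | h ∈ H ∧ x * h * x⁻¹ = h⁻¹ ∧ y * h * y⁻¹ = h⁻¹} := by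
    ext h
    simp only [ix, Set.mem_ofPred_eq, mem_fx]
    constructor
    · rintro ⟨⟨hH, h1⟩, h2⟩
      refine ⟨hH, h2, ?_⟩
      have h1' := conj_eq_iff.mpr h1
      have hxinv := inv_eq_self_of_sq hx
      calc y * h * y⁻¹ = (x * x) * (y * h * y⁻¹) * (x * x)⁻¹ := by rw [hx]; group
        _ = x * ((x * y) * h * (x * y)⁻¹) * x⁻¹ := by group
        _ = h⁻¹ := by rw [h1', h2]
    · rintro ⟨hH, h1, h2⟩
      refine ⟨⟨hH, conj_eq_iff.mp ?_⟩, h1⟩
      calc (x * y) * h * (x * y)⁻¹ = x * (y * h * y⁻¹) * x⁻¹ := by group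
        _ = (x * h * x⁻¹)⁻¹ := by rw [h2]; group
        _ = h := by rw [h1, inv_inv]
  rw [c2] at e2
  rw [c3] at e3
  rw [c4] at e4
  have k2 := congrArg (fun S : Set G => Nat.card ↥S) s2
  have k4 := congrArg (fun S : Set G => Nat.card ↥S) s4
  rw [← k2, ← k4] at e5
  rw [e2, e4, e1, e5]
  ring

end Cfsg.Agent.Lib.BC77.Hall4
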