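import Mathlib
import Cfsg.Agent.Lib.BC77.Hall4.FourFormula

/-!
# Four-fold transitive groups with four-point stabilisers of odd order: involutions

All involutions are conjugate, they fix at most three points, and their centralisers are transitive on
the two kinds of adapted quadruples.
-/

set_option autoImplicit false
set_option linter.unusedSectionVars false

namespace Cfsg.Agent.Lib.BC77.Hall4

open MulAction Finset
open Cfsg.Agent.Lib.RankOne.Involution

variable {G : Type*} [Group G] {α : Type*} [MulAction G α]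

/-- Four distinct points. -/
structure Dist (a b c d : α) : Prop where
  hab : a ≠ b
  hac : a ≠ c
  had : a ≠ d
  hbc : b ≠ c
  hbd : b ≠ d
  hcd : c ≠ d

theorem Dist.injective {a b c d : α} (h : Dist a b c d) :
    Function.Injective ![a, b, c, d] := by
  obtain ⟨h1, h2, h3, h4, h5, h6⟩ := h
  intro i j hij
  fin_cases i <;> fin_cases j <;> simp_all

/-- The embedding of four distinct points. -/
def Dist.emb {a b c d : α} (h : Dist a b c d) : Fin 4 ↪ α := ⟨_, h.injective⟩

/-- The stabiliser of four points. -/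
def Hs (G : Type*) [Group G] [MulAction G α] (a b c d : α) : Subgroup G where
  carrier := {g | g • a = a ∧ g • b = b ∧ g • c = c ∧ g • d = d}
  mul_mem' := by
    rintro g h ⟨h1, h2, h3, h4⟩ ⟨k1, k2, k3, k4⟩
    exact ⟨by rw [mul_smul, k1, h1], by rw [mul_smul, k2, h2], by rw [mul_smul, k3, h3],
      by rw [mul_smul, k4, h4]⟩
  one_mem' := ⟨one_smul _ _, one_smul _ _, one_smul _ _, one_smul _ _⟩
  inv_mem' := by
    rintro g ⟨h1, h2, h3, h4⟩
    exact ⟨inv_smul_eq_iff.mpr h1.symm, inv_smul_eq_iff.mpr h2.symm,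
      inv_smul_eq_iff.mpr h3.symm, inv_smul_eq_iff.mpr h4.symm⟩

theorem mem_Hs {a b c d : α} {g : G} :
    g ∈ Hs G a b c d ↔ g • a = a ∧ g • b = b ∧ g • c = c ∧ g • d = d := Iff.rfl

theorem Hs_eq_stabilizer {a b c d : α} (h : Dist a b c d) :
    Hs G a b c d = stabilizer G h.emb := by
  ext g
  rw [mem_Hs, mem_stabilizer_iff]
  constructor
  · rintro ⟨h1, h2, h3, h4⟩
    ext i
    fin_cases i <;> assumption
  · intro hg
    exact ⟨DFunLike.congr_fun hg 0, DFunLike.congr_fun hg 1, DFunLike.congr_fun hg 2,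
      DFunLike.congr_fun hg 3⟩

/-- The standing hypotheses. -/
structure Hyp (G : Type*) [Group G] (α : Type*) [MulAction G α] : Prop where
  trans : IsMultiplyPretransitive G α 4
  odd : ∀ a b c d : α, Dist a b c d → Odd (Nat.card (Hs G a b c d))

theorem card_Hs_eq [Finite G] (hG : IsMultiplyPretransitive G α 4) {a b c d a' b' c' d' : α}
    (h : Dist a b c d) (h' : Dist a' b' c' d') :
    Nat.card (Hs G a b c d) = Nat.card (Hs G a' b' c' d') := by
  have := hG
  rw [Hs_eq_stabilizer h, Hs_eq_stabilizer h']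
  obtain ⟨g, hg⟩ := exists_smul_eq G h.emb h'.emb
  rw [← hg, stabilizer_smul_eq_stabilizer_map_conj]
  exact Nat.card_congr ((stabilizer G h.emb).equivMapOfInjective _
    (MulAut.conj g).injective).toEquiv

theorem exists_map (hG : IsMultiplyPretransitive G α 4) {a b c d a' b' c' d' : α}
    (h : Dist a b c d) (h' : Dist a' b' c' d') :
    ∃ g : G, g • a = a' ∧ g • b = b' ∧ g • c = c' ∧ g • d = d' := by
  have := hG
  obtain ⟨g, hg⟩ := exists_smul_eq G h.emb h'.emb
  exact ⟨g, DFunLike.congr_fun hg 0, DFunLike.congr_fun hg 1, DFunLike.congr_fun hg 2,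
    DFunLike.congr_fun hg 3⟩

theorem fix_of_mem_list {a b c d : α} {j : G} {p : α} (hj : j ∈ Hs G a b c d)
    (hp : p ∈ [a, b, c, d]) : j • p = p := by
  simp only [List.mem_cons, List.not_mem_nil, or_false] at hp
  rcases hp with rfl | rfl | rfl | rfl
  exacts [hj.1, hj.2.1, hj.2.2.1, hj.2.2.2]

variable [Fintype α] [DecidableEq α]

/-- The fixed points. -/
def fix (t : G) : Finset α := univ.filter fun p => t • p = p

theorem mem_fix {t : G} {p : α} : p ∈ fix (α := α) t ↔ t • p = p := by simp [fix]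

section

variable (hyp : Hyp G α)
include hyp

theorem eq_one_of_sq_fix {a b c d : α} (h : Dist a b c d) {g : G} (hg : g * g = 1)
    (hm : g ∈ Hs G a b c d) : g = 1 :=
  eq_one_of_sq (hyp.odd a b c d h) hm hg

theorem fix_le_three {g : G} (hg : g * g = 1) (h1 : g ≠ 1) : (fix (α := α) g).card ≤ 3 := by
  by_contra hlt
  obtain ⟨s, hs, hs4⟩ := Finset.exists_subset_card_eq (Nat.succ_le_of_lt (not_le.mp hlt))
  obtain ⟨a, b, c, d, hab, hac, had, hbc, hbd, hcd, rfl⟩ := Finset.card_eq_four.mp hs4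
  exact h1 (eq_one_of_sq_fix hyp ⟨hab, hac, had, hbc, hbd, hcd⟩ hg
    ⟨mem_fix.mp (hs (by simp)), mem_fix.mp (hs (by simp)), mem_fix.mp (hs (by simp)),
      mem_fix.mp (hs (by simp))⟩)

/-- An element whose square fixes four points can be replaced by an involution. -/
theorem exists_inv {a b c d : α} (h : Dist a b c d) {g : G} (hg : g * g ∈ Hs G a b c d) :
    ∃ t : G, t * t = 1 ∧ t • a = g • a ∧ t • b = g • b ∧ t • c = g • c ∧ t • d = g • d := by
  obtain ⟨k, hk⟩ := hyp.odd a b c d h
  have h2 : (g * g) ^ k ∈ Hs G a b c d := pow_mem hg k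
  refine ⟨g * (g * g) ^ k, ?_, ?_, ?_, ?_, ?_⟩
  · have hc : Commute g ((g * g) ^ k) := ((Commute.refl g).mul_right (Commute.refl g)).pow_right k
    calc g * (g * g) ^ k * (g * (g * g) ^ k) = g * ((g * g) ^ k * g) * (g * g) ^ k := by group
      _ = g * (g * (g * g) ^ k) * (g * g) ^ k := by rw [hc.eq]
      _ = (g * g) * ((g * g) ^ k * (g * g) ^ k) := by group
      _ = (g * g) ^ (1 + (k + k)) := by rw [pow_add, pow_one, pow_add]
      _ = 1 := by
          rw [show 1 + (k + k) = Nat.card (Hs G a b c d) by omega]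
          exact pow_card_eq_one_mem hg
  · rw [mul_smul, h2.1]
  · rw [mul_smul, h2.2.1]
  · rw [mul_smul, h2.2.2.1]
  · rw [mul_smul, h2.2.2.2]

/-- Two involutions inducing the same map on an invariant quadruple are conjugate in its stabiliser,
by an element centralising everything that centralises both. -/
theorem coset_conj {a b c d : α} (h : Dist a b c d) {t t' : G} (ht : t * t = 1)
    (ht' : t' * t' = 1) (ha : t • a = t' • a) (hb : t • b = t' • b) (hc : t • c = t' • c)
    (hd : t • d = t' • d) :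
    ∃ k ∈ Hs G a b c d, k * t * k⁻¹ = t' ∧
      ∀ u : G, Commute u t → Commute u t' → Commute u k := by
  have hq : t * t' ∈ Hs G a b c d := by
    have key : ∀ p : α, t • p = t' • p → (t * t') • p = p := fun p hp => by
      rw [mul_smul, ← hp, ← mul_smul, ht, one_smul]
    exact ⟨key a ha, key b hb, key c hc, key d hd⟩
  have hq' : t' * t ∈ Hs G a b c d := by
    have := inv_mem hq
    rwa [mul_inv_rev, inv_eq_self_of_sq ht, inv_eq_self_of_sq ht'] at this
  obtain ⟨k, hk, hkk, j, hj⟩ := exists_sqrt (hyp.odd a b c d h) hq'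
  refine ⟨k, hk, ?_, fun u hu hu' => by rw [hj]; exact (hu'.mul_right hu).pow_right j⟩
  have hinv : t * (t' * t) * t⁻¹ = (t' * t)⁻¹ := by
    rw [mul_inv_rev, inv_eq_self_of_sq ht, inv_eq_self_of_sq ht']
    simp only [mul_assoc, ht, mul_one]
  have hkinv : t * k * t⁻¹ = k⁻¹ := by rw [hj, ← conj_pow, hinv, inv_pow]
  have e : t * k⁻¹ = k * t := by
    calc t * k⁻¹ = (t * k * t⁻¹)⁻¹ * t := by group
      _ = k * t := by rw [hkinv, inv_inv]
  rw [mul_assoc, e, ← mul_assoc, hkk, mul_assoc, ht, mul_one]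

/-- An involution commuting with a given one and inducing a given map. -/
theorem exists_commuting {a b c d : α} (h : Dist a b c d) {u s : G} (hu : u * u = 1)
    (hs : s * s = 1) (ha : (u * s * u) • a = s • a) (hb : (u * s * u) • b = s • b)
    (hc : (u * s * u) • c = s • c) (hd : (u * s * u) • d = s • d)
    (hperm : ∀ p, p ∈ [a, b, c, d] → s • p ∈ [a, b, c, d]) :
    ∃ t : G, t * t = 1 ∧ Commute u t ∧ t • a = s • a ∧ t • b = s • b ∧ t • c = s • c ∧
      t • d = s • d := by
  have hui := inv_eq_self_of_sq hu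
  have hs' : (u * s * u) * (u * s * u) = 1 := by
    calc (u * s * u) * (u * s * u) = u * (s * (u * u) * s) * u := by group
      _ = 1 := by rw [hu, mul_one, hs, mul_one, hu]
  have hq : (u * s * u) * s ∈ Hs G a b c d := by
    have key : ∀ p : α, (u * s * u) • p = s • p → ((u * s * u) * s)⁻¹ • p = p := fun p hp => by
      rw [mul_inv_rev, inv_eq_self_of_sq hs', inv_eq_self_of_sq hs, mul_smul, hp, ← mul_smul, hs,
        one_smul]
    exact inv_mem_iff.mp ⟨key a ha, key b hb, key c hc, key d hd⟩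
  obtain ⟨j, hj, hjj, i, hji⟩ := exists_sqrt (hyp.odd a b c d h) hq
  have hsq : s * ((u * s * u) * s) * s⁻¹ = ((u * s * u) * s)⁻¹ := by
    rw [mul_inv_rev, inv_eq_self_of_sq hs', inv_eq_self_of_sq hs]
    simp only [mul_assoc, hs, mul_one]
  have huq : u * ((u * s * u) * s) * u⁻¹ = ((u * s * u) * s)⁻¹ := by
    rw [mul_inv_rev, inv_eq_self_of_sq hs', inv_eq_self_of_sq hs, hui]
    calc u * (u * s * u * s) * u = (u * u) * s * u * s * u := by group
      _ = s * (u * s * u) := by rw [hu]; group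
  have hjs : s * j * s⁻¹ = j⁻¹ := by rw [hji, ← conj_pow, hsq, inv_pow]
  have hju : u * j * u⁻¹ = j⁻¹ := by rw [hji, ← conj_pow, huq, inv_pow]
  refine ⟨j * s, ?_, ?_, ?_, ?_, ?_, ?_⟩
  · calc j * s * (j * s) = j * (s * j * s⁻¹) * (s * s) := by group
      _ = 1 := by rw [hjs, hs]; group
  · show u * (j * s) = j * s * u
    calc u * (j * s) = (u * j * u⁻¹) * (u * s * u) * u⁻¹ := by group
      _ = j⁻¹ * ((u * s * u) * s) * s⁻¹ * u⁻¹ := by rw [hju]; group
      _ = j⁻¹ * (j * j) * s⁻¹ * u⁻¹ := by rw [hjj]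
      _ = j * s * u := by rw [hui, inv_eq_self_of_sq hs]; group
  all_goals rw [mul_smul]; exact fix_of_mem_list hj (hperm _ (by simp))

end

end Cfsg.Agent.Lib.BC77.Hall4
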