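import Mathlib
import Cfsg.Agent.Lib.BC77.Hall4.Basic

/-!
# Four-fold transitive groups with four-point stabilisers of odd order: counting in centralisers
-/

set_option autoImplicit false
set_option linter.unusedSectionVars false

namespace Cfsg.Agent.Lib.BC77.Hall4

open MulAction Finset
open Cfsg.Agent.Lib.RankOne.Involution

variable {G : Type*} [Group G] [Finite G] {α : Type*} [MulAction G α] [Fintype α] [DecidableEq α]

theorem mem_fix_smul {t g : G} (h : Commute g t) {p : α} (hp : t • p = p) :
    t • (g • p) = g • p := by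
  rw [← mul_smul, ← h.eq, mul_smul, hp]

variable (hyp : Hyp G α)
include hyp

/-- The centraliser of an involution is transitive on quadruples on which it induces the same pattern. -/
theorem exists_centralizer_map {t : G} (ht : t * t = 1) {a b c d a' b' c' d' : α}
    (h : Dist a b c d) (h' : Dist a' b' c' d')
    (hpat : ∀ g : G, g • a = a' → g • b = b' → g • c = c' → g • d = d' →
      g • (t • a) = t • a' ∧ g • (t • b) = t • b' ∧ g • (t • c) = t • c' ∧ g • (t • d) = t • d') :
    ∃ g : G, Commute g t ∧ g • a = a' ∧ g • b = b' ∧ g • c = c' ∧ g • d = d' := by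
  obtain ⟨g, ga, gb, gc, gd⟩ := exists_map hyp.trans h h'
  obtain ⟨e1, e2, e3, e4⟩ := hpat g ga gb gc gd
  have ht' : (g * t * g⁻¹) * (g * t * g⁻¹) = 1 := by
    calc (g * t * g⁻¹) * (g * t * g⁻¹) = g * (t * t) * g⁻¹ := by group
      _ = 1 := by rw [ht]; group
  have key : ∀ p p' : α, g • p = p' → g • (t • p) = t • p' → (g * t * g⁻¹) • p' = t • p' := by
    intro p p' hp he
    rw [← he, mul_smul, mul_smul, ← hp, inv_smul_smul]
  obtain ⟨k, hk, hkt, -⟩ := coset_conj hyp h' ht' ht (key a a' ga e1) (key b b' gb e2)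
    (key c c' gc e3) (key d d' gd e4)
  refine ⟨k * g, ?_, ?_, ?_, ?_, ?_⟩
  · show k * g * t = t * (k * g)
    conv_rhs => rw [← hkt]
    group
  · rw [mul_smul, ga, hk.1]
  · rw [mul_smul, gb, hk.2.1]
  · rw [mul_smul, gc, hk.2.2.1]
  · rw [mul_smul, gd, hk.2.2.2]

omit hyp in
theorem card_eq_orbit_mul (C : Subgroup G) {β : Type*} [MulAction G β] (x : β) (S : Finset β)
    (hS : ∀ y, y ∈ S ↔ ∃ g ∈ C, g • x = y) (K : Subgroup G)
    (hK : ∀ g, g ∈ K ↔ g ∈ C ∧ g • x = x) :
    Nat.card C = S.card * Nat.card K := by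
  classical
  rw [← Subgroup.index_mul_card (stabilizer C x), index_stabilizer]
  congr 1
  · have : orbit C x = (S : Set β) := by
      ext y
      rw [mem_orbit_iff, Finset.mem_coe, hS]
      exact ⟨fun ⟨g, hg⟩ => ⟨g, g.2, hg⟩, fun ⟨g, hgC, hg⟩ => ⟨⟨g, hgC⟩, hg⟩⟩
    rw [this, Set.ncard_coe_finset]
  · exact Nat.card_congr
      { toFun := fun g => ⟨(g.1 : G), (hK _).mpr ⟨g.1.2, g.2⟩⟩
        invFun := fun g => ⟨⟨g.1, ((hK _).mp g.2).1⟩, ((hK _).mp g.2).2⟩
        left_inv := fun g => rfl
        right_inv := fun g => rfl }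

omit hyp [Fintype α] [DecidableEq α] in
theorem smul_tuple_eq_self {g : G} {a b c d : α} :
    g • (a, b, c, d) = (a, b, c, d) ↔ g ∈ Hs G a b c d := by
  simp [Prod.ext_iff, mem_Hs]

/-- The quadruples `(a, t a, c, d)` with `a` moved and `c ≠ d` fixed. -/
theorem card_centralizer_U {t : G} (ht : t * t = 1) {a b c d : α} (h : Dist a b c d)
    (hab : t • a = b) (hc : t • c = c) (hd : t • d = d) :
    Nat.card (Subgroup.centralizer {t})
      = (Fintype.card α - (fix (α := α) t).card)
        * ((fix (α := α) t).card * (fix (α := α) t).card - (fix (α := α) t).card)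
        * Nat.card (fx t (Hs G a b c d)) := by
  classical
  set F := fix (α := α) t with hF
  let S : Finset (α × α × α × α) :=
    ((univ \ F) ×ˢ F.offDiag).image fun q => (q.1, t • q.1, q.2.1, q.2.2)
  have hinj : Function.Injective fun q : α × α × α => (q.1, t • q.1, q.2.1, q.2.2) := by
    intro q q' e
    simp only [Prod.mk.injEq] at e
    exact Prod.ext e.1 (Prod.ext e.2.2.1 e.2.2.2)
  have hS : S.card = (Fintype.card α - F.card) * (F.card * F.card - F.card) := by
    rw [card_image_of_injective _ hinj, card_product, card_univ_sdiff, offDiag_card]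
  rw [← hS]
  refine card_eq_orbit_mul _ (a, b, c, d) S (fun y => ?_) _ (fun g => ?_)
  · obtain ⟨a', b', c', d'⟩ := y
    constructor
    · intro hy
      simp only [S, mem_image, mem_product, Finset.mem_sdiff, mem_univ, true_and, mem_offDiag,
        Prod.mk.injEq, Prod.exists] at hy
      obtain ⟨x, z, w, ⟨hx, hz, hw, hzw⟩, rfl, rfl, rfl, rfl⟩ := hy
      rw [hF, mem_fix] at hx hz hw
      have h' : Dist x (t • x) z w := by
        refine ⟨fun e => hx e.symm, fun e => hx (by rw [e, hz]), fun e => hx (by rw [e, hw]),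
          fun e => hx ?_, fun e => hx ?_, hzw⟩
        · have := congrArg (t • ·) e
          simp only [← mul_smul, ht, one_smul, hz] at this
          rw [this, hz]
        · have := congrArg (t • ·) e
          simp only [← mul_smul, ht, one_smul, hw] at this
          rw [this, hw]
      have hba : t • b = a := by rw [← hab, ← mul_smul, ht, one_smul]
      obtain ⟨g, hg, g1, g2, g3, g4⟩ := exists_centralizer_map hyp ht h h'
        (fun g g1 g2 g3 g4 => ⟨by rw [hab, g2],
          by rw [hba, g1, ← mul_smul, ht, one_smul], by rw [hc, g3, hz], by rw [hd, g4, hw]⟩)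
      refine ⟨g, Subgroup.mem_centralizer_singleton_iff.mpr hg.eq, ?_⟩
      simp [Prod.smul_def, g1, g2, g3, g4]
    · rintro ⟨g, hg, he⟩
      rw [Subgroup.mem_centralizer_singleton_iff] at hg
      simp only [Prod.smul_mk, Prod.mk.injEq] at he
      obtain ⟨rfl, rfl, rfl, rfl⟩ := he
      simp only [S, mem_image, mem_product, Finset.mem_sdiff, mem_univ, true_and, mem_offDiag,
        Prod.mk.injEq, Prod.exists]
      refine ⟨g • a, g • c, g • d, ⟨?_, mem_fix.mpr (mem_fix_smul hg hc),
        mem_fix.mpr (mem_fix_smul hg hd), fun e => h.hcd (smul_left_cancel g e)⟩, rfl, ?_, rfl, rfl⟩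
      · rw [hF, mem_fix, ← mul_smul, ← hg, mul_smul, hab]
        exact fun e => h.hab (smul_left_cancel g e).symm
      · rw [← mul_smul, ← hg, mul_smul, hab]
  · rw [mem_fx, smul_tuple_eq_self, Subgroup.mem_centralizer_singleton_iff]
    tauto

/-- The quadruples `(a, t a, c, t c)` in two different `2`-cycles. -/
theorem card_centralizer_V {t : G} (ht : t * t = 1) {a b c d : α} (h : Dist a b c d)
    (hab : t • a = b) (hcd : t • c = d) :
    Nat.card (Subgroup.centralizer {t})
      = (Fintype.card α - (fix (α := α) t).card)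
        * (Fintype.card α - (fix (α := α) t).card - 2)
        * Nat.card (fx t (Hs G a b c d)) := by
  classical
  set F := fix (α := α) t with hF
  let S : Finset (α × α × α × α) :=
    ((univ \ F).sigma fun x => (univ \ F) \ {x, t • x}).image
      fun q => (q.1, t • q.1, q.2, t • q.2)
  have hinj : Function.Injective fun q : (Σ _ : α, α) => (q.1, t • q.1, q.2, t • q.2) := by
    rintro ⟨x, y⟩ ⟨x', y'⟩ e
    simp only [Prod.mk.injEq] at e
    obtain ⟨rfl, -, rfl, -⟩ := e
    rfl
  have hS : S.card = (Fintype.card α - F.card) * (Fintype.card α - F.card - 2) := by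
    rw [card_image_of_injective _ hinj, card_sigma, sum_const_nat (m := Fintype.card α - F.card - 2),
      card_univ_sdiff]
    intro x hx
    have hx' : t • x ≠ x := fun e => (Finset.mem_sdiff.mp hx).2 (mem_fix.mpr e)
    rw [card_sdiff_of_subset, card_univ_sdiff, card_pair hx'.symm]
    intro p hp
    simp only [mem_insert, mem_singleton] at hp
    rcases hp with rfl | rfl
    · exact hx
    · refine Finset.mem_sdiff.mpr ⟨mem_univ _, fun e => hx' ?_⟩
      rw [hF, mem_fix, ← mul_smul, ht, one_smul] at e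
      exact e.symm
  rw [← hS]
  refine card_eq_orbit_mul _ (a, b, c, d) S (fun y => ?_) _ (fun g => ?_)
  · obtain ⟨a', b', c', d'⟩ := y
    constructor
    · intro hy
      simp only [S, mem_image, mem_sigma, Finset.mem_sdiff, mem_univ, true_and, mem_insert,
        mem_singleton, not_or, Prod.mk.injEq, Sigma.exists] at hy
      obtain ⟨x, z, ⟨hx, hz, hzx, hztx⟩, rfl, rfl, rfl, rfl⟩ := hy
      rw [hF, mem_fix] at hx hz
      have h' : Dist x (t • x) z (t • z) := by
        refine ⟨fun e => hx e.symm, fun e => hzx e.symm, fun e => hztx ?_, fun e => hztx e.symm,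
          fun e => hzx (smul_left_cancel t e).symm, fun e => hz e.symm⟩
        rw [e, ← mul_smul, ht, one_smul]
      have hba : t • b = a := by rw [← hab, ← mul_smul, ht, one_smul]
      have hdc : t • d = c := by rw [← hcd, ← mul_smul, ht, one_smul]
      obtain ⟨g, hg, g1, g2, g3, g4⟩ := exists_centralizer_map hyp ht h h'
        (fun g g1 g2 g3 g4 => ⟨by rw [hab, g2], by rw [hba, g1, ← mul_smul, ht, one_smul],
          by rw [hcd, g4], by rw [hdc, g3, ← mul_smul, ht, one_smul]⟩)
      refine ⟨g, Subgroup.mem_centralizer_singleton_iff.mpr hg.eq, ?_⟩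
      simp [Prod.smul_def, g1, g2, g3, g4]
    · rintro ⟨g, hg, he⟩
      rw [Subgroup.mem_centralizer_singleton_iff] at hg
      simp only [Prod.smul_mk, Prod.mk.injEq] at he
      obtain ⟨rfl, rfl, rfl, rfl⟩ := he
      have k1 : t • (g • a) = g • b := by rw [← mul_smul, ← hg, mul_smul, hab]
      have k2 : t • (g • c) = g • d := by rw [← mul_smul, ← hg, mul_smul, hcd]
      simp only [S, mem_image, mem_sigma, Finset.mem_sdiff, mem_univ, true_and, mem_insert,
        mem_singleton, not_or, Prod.mk.injEq, Sigma.exists]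
      refine ⟨g • a, g • c, ⟨?_, ?_, fun e => h.hac (smul_left_cancel g e).symm, ?_⟩, rfl, k1, rfl,
        k2⟩
      · rw [hF, mem_fix, k1]; exact fun e => h.hab (smul_left_cancel g e).symm
      · rw [hF, mem_fix, k2]; exact fun e => h.hcd (smul_left_cancel g e).symm
      · rw [k1]; exact fun e => h.hbc (smul_left_cancel g e).symm
  · rw [mem_fx, smul_tuple_eq_self, Subgroup.mem_centralizer_singleton_iff]
    tauto

/-- An involution moves four points in two `2`-cycles once there are at least six points. -/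
theorem exists_two_cycles (h6 : 6 ≤ Fintype.card α) {t : G} (ht : t * t = 1) (h1 : t ≠ 1) :
    ∃ a b c d : α, Dist a b c d ∧ t • a = b ∧ t • c = d := by
  classical
  have hF := fix_le_three hyp ht h1
  have hM : 3 ≤ (univ \ fix (α := α) t).card := by rw [card_univ_sdiff]; omega
  obtain ⟨a, ha⟩ := Finset.card_pos.mp (show 0 < (univ \ fix (α := α) t).card by omega)
  have hex : 0 < ((univ \ fix (α := α) t) \ {a, t • a}).card := by
    have h2 : ({a, t • a} : Finset α).card ≤ 2 := card_le_two
    have := le_card_sdiff {a, t • a} (univ \ fix (α := α) t)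
    omega
  obtain ⟨c, hc⟩ := Finset.card_pos.mp hex
  simp only [Finset.mem_sdiff, mem_univ, true_and, mem_fix, mem_insert, mem_singleton,
    not_or] at ha hc
  obtain ⟨hc1, hca, hcta⟩ := hc
  refine ⟨a, t • a, c, t • c, ⟨fun e => ha e.symm, fun e => hca e.symm, fun e => hcta ?_,
    fun e => hcta e.symm, fun e => hca (smul_left_cancel t e).symm, fun e => hc1 e.symm⟩, rfl, rfl⟩
  rw [e, ← mul_smul, ht, one_smul]

theorem isConj_of_involution (h6 : 6 ≤ Fintype.card α) {s t : G} (hs : s * s = 1) (hs1 : s ≠ 1)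
    (ht : t * t = 1) (ht1 : t ≠ 1) : ∃ g : G, g * s * g⁻¹ = t := by
  obtain ⟨a, b, c, d, h, hab, hcd⟩ := exists_two_cycles hyp h6 hs hs1
  obtain ⟨a', b', c', d', h', hab', hcd'⟩ := exists_two_cycles hyp h6 ht ht1
  obtain ⟨g, ga, gb, gc, gd⟩ := exists_map hyp.trans h h'
  have hs' : (g * s * g⁻¹) * (g * s * g⁻¹) = 1 := by
    calc (g * s * g⁻¹) * (g * s * g⁻¹) = g * (s * s) * g⁻¹ := by group
      _ = 1 := by rw [hs]; group
  have key : ∀ p q p' q' : α, g • p = p' → g • q = q' → s • p = q → t • p' = q' →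
      (g * s * g⁻¹) • p' = t • p' := by
    intro p q p' q' hp hq hpq hpq'
    rw [hpq', ← hq, ← hpq, ← hp, mul_smul, mul_smul, inv_smul_smul]
  have hba : s • b = a := by rw [← hab, ← mul_smul, hs, one_smul]
  have hdc : s • d = c := by rw [← hcd, ← mul_smul, hs, one_smul]
  have hba' : t • b' = a' := by rw [← hab', ← mul_smul, ht, one_smul]
  have hdc' : t • d' = c' := by rw [← hcd', ← mul_smul, ht, one_smul]
  obtain ⟨k, -, hkt, -⟩ := coset_conj hyp h' hs' ht (key a b a' b' ga gb hab hab')
    (key b a b' a' gb ga hba hba') (key c d c' d' gc gd hcd hcd')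
    (key d c d' c' gd gc hdc hdc')
  exact ⟨k * g, by rw [← hkt]; group⟩

omit hyp in
theorem card_fix_conj (g t : G) :
    (fix (α := α) (g * t * g⁻¹)).card = (fix (α := α) t).card := by
  refine (Finset.card_equiv (MulAction.toPerm g) fun p => ?_).symm
  simp [mem_fix, mul_smul]

theorem card_fix_eq (h6 : 6 ≤ Fintype.card α) {s t : G} (hs : s * s = 1) (hs1 : s ≠ 1)
    (ht : t * t = 1) (ht1 : t ≠ 1) : (fix (α := α) s).card = (fix (α := α) t).card := by
  obtain ⟨g, rfl⟩ := isConj_of_involution hyp h6 hs hs1 ht ht1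
  exact (card_fix_conj g s).symm

theorem card_centralizer_eq (h6 : 6 ≤ Fintype.card α) {s t : G} (hs : s * s = 1) (hs1 : s ≠ 1)
    (ht : t * t = 1) (ht1 : t ≠ 1) :
    Nat.card (Subgroup.centralizer {s}) = Nat.card (Subgroup.centralizer {t}) := by
  obtain ⟨g, rfl⟩ := isConj_of_involution hyp h6 hs hs1 ht ht1
  refine Nat.card_congr
    { toFun := fun x => ⟨g * x.1 * g⁻¹, ?_⟩
      invFun := fun x => ⟨g⁻¹ * x.1 * g, ?_⟩
      left_inv := fun x => Subtype.ext (by simp [mul_assoc])
      right_inv := fun x => Subtype.ext (by simp [mul_assoc]) }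
  · have hx := Subgroup.mem_centralizer_singleton_iff.mp x.2
    rw [Subgroup.mem_centralizer_singleton_iff]
    calc g * x.1 * g⁻¹ * (g * s * g⁻¹) = g * (x.1 * s) * g⁻¹ := by group
      _ = g * (s * x.1) * g⁻¹ := by rw [hx]
      _ = g * s * g⁻¹ * (g * x.1 * g⁻¹) := by group
  · have hx := Subgroup.mem_centralizer_singleton_iff.mp x.2
    rw [Subgroup.mem_centralizer_singleton_iff]
    calc g⁻¹ * x.1 * g * s = g⁻¹ * (x.1 * (g * s * g⁻¹)) * g := by group
      _ = g⁻¹ * ((g * s * g⁻¹) * x.1) * g := by rw [hx]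
      _ = s * (g⁻¹ * x.1 * g) := by group

end Cfsg.Agent.Lib.BC77.Hall4
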