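import Mathlib
import Cfsg.Agent.Lib.BC77.Hall4.Count

/-!
# Four-fold transitive groups with four-point stabilisers of odd order: the degree

Two commuting involutions `u = (ab)...`, `u' = (cd)...` have a regular orbit as soon as there are eight
points; comparing the two ways of computing centralisers gives `k (w - 4) = 4 (w - 2)` with `w` the
number of moved points and `k` the number of ordered pairs of fixed points, so `n = 11`.
-/

set_option autoImplicit false
set_option linter.unusedSectionVars false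

namespace Cfsg.Agent.Lib.BC77.Hall4

open MulAction Finset
open Cfsg.Agent.Lib.RankOne.Involution

variable {G : Type*} [Group G] [Finite G] {α : Type*} [MulAction G α] [Fintype α] [DecidableEq α]

omit [Fintype α] [DecidableEq α] in
theorem conj_mem_Hs {a b c d : α} {x : G} (hx : x * x = 1)
    (hperm : ∀ p, p ∈ [a, b, c, d] → x • p ∈ [a, b, c, d]) :
    ∀ h ∈ Hs G a b c d, x * h * x⁻¹ ∈ Hs G a b c d := by
  intro h hh
  have key : ∀ p, p ∈ [a, b, c, d] → (x * h * x⁻¹) • p = p := fun p hp => by
    rw [inv_eq_self_of_sq hx, mul_smul, mul_smul, fix_of_mem_list hh (hperm p hp), ← mul_smul, hx,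
      one_smul]
  exact ⟨key a (by simp), key b (by simp), key c (by simp), key d (by simp)⟩

omit [Fintype α] [DecidableEq α] in
theorem Hs_swap (a b c d : α) : Hs G c d a b = Hs G a b c d := by
  ext g; simp only [mem_Hs]; tauto

omit [Fintype α] in
/-- An element of odd order fixes pointwise every invariant set of at most two points. -/
theorem fix_small {H : Subgroup G} (hodd : Odd (Nat.card H)) {g : G} (hg : g ∈ H) (s : Finset α)
    (hs : s.card ≤ 2) (hinv : ∀ p ∈ s, g • p ∈ s) {p : α} (hp : p ∈ s) : g • p = p := by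
  by_contra hne
  have hseq : ({p, g • p} : Finset α) = s :=
    Finset.eq_of_subset_of_card_le (by simp [Finset.insert_subset_iff, hp, hinv p hp])
      (by rw [card_pair (Ne.symm hne)]; exact hs)
  have h2 : (g * g) • p = p := by
    have : g • (g • p) ∈ ({p, g • p} : Finset α) := hseq ▸ hinv _ (hinv p hp)
    simp only [mem_insert, mem_singleton] at this
    rcases this with e | e
    · rw [mul_smul, e]
    · exact absurd (smul_left_cancel g e) hne
  obtain ⟨k, hk⟩ := hodd
  have h1 := pow_card_eq_one_mem (H := H) hg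
  rw [hk, pow_succ', pow_mul, sq] at h1
  have hst : g * g ∈ stabilizer G p := h2
  have : ((g * g) ^ k) • p = p := pow_mem hst k
  have := congrArg (· • p) h1
  simp only [mul_smul, one_smul] at this
  rw [‹((g * g) ^ k) • p = p›] at this
  exact hne this

theorem card_eq_descFactorial (hG : IsMultiplyPretransitive G α 4) {a b c d : α}
    (h : Dist a b c d) :
    Nat.card G = (Fintype.card α).descFactorial 4 * Nat.card (Hs G a b c d) := by
  have := hG
  rw [Hs_eq_stabilizer h, ← Subgroup.index_mul_card (stabilizer G h.emb),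
    index_stabilizer_of_transitive, Nat.card_eq_fintype_card, Fintype.card_embedding_eq,
    Fintype.card_fin]

theorem card_dvd_factorial [FaithfulSMul G α] :
    Nat.card G ∣ Nat.factorial (Fintype.card α) := by
  have h := Subgroup.card_dvd_of_injective (MulAction.toPermHom G α) MulAction.toPerm_injective
  rwa [Nat.card_perm, Nat.card_eq_fintype_card (α := α)] at h

variable (hyp : Hyp G α)
include hyp

theorem exists_swap_pair {a b c d : α} (h : Dist a b c d) :
    ∃ u : G, u * u = 1 ∧ u ≠ 1 ∧ u • a = b ∧ u • b = a ∧ u • c = c ∧ u • d = d := by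
  obtain ⟨g, g1, g2, g3, g4⟩ := exists_map hyp.trans h
    (⟨h.hab.symm, h.hbc, h.hbd, h.hac, h.had, h.hcd⟩ : Dist b a c d)
  obtain ⟨u, hu, u1, u2, u3, u4⟩ := exists_inv hyp h (g := g) ⟨by rw [mul_smul, g1, g2],
    by rw [mul_smul, g2, g1], by rw [mul_smul, g3, g3], by rw [mul_smul, g4, g4]⟩
  refine ⟨u, hu, ?_, u1.trans g1, u2.trans g2, u3.trans g3, u4.trans g4⟩
  rintro rfl
  exact h.hab (by rw [← g1, ← u1, one_smul])

theorem eq_of_U_V (h6 : 6 ≤ Fintype.card α) {s t : G} (hs : s * s = 1) (hs1 : s ≠ 1)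
    (ht : t * t = 1) (ht1 : t ≠ 1) {a b c d a' b' c' d' : α} (h : Dist a b c d)
    (h' : Dist a' b' c' d') (hab : s • a = b) (hc : s • c = c) (hd : s • d = d)
    (hab' : t • a' = b') (hcd' : t • c' = d') :
    ((fix (α := α) s).card * (fix (α := α) s).card - (fix (α := α) s).card)
        * Nat.card (fx s (Hs G a b c d))
      = (Fintype.card α - (fix (α := α) s).card - 2) * Nat.card (fx t (Hs G a' b' c' d')) := by
  have e := card_centralizer_eq hyp h6 hs hs1 ht ht1
  rw [card_centralizer_U hyp hs h hab hc hd, card_centralizer_V hyp ht h' hab' hcd',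
    ← card_fix_eq hyp h6 hs hs1 ht ht1, mul_assoc, mul_assoc] at e
  exact Nat.eq_of_mul_eq_mul_left (by have := fix_le_three hyp hs hs1; omega) e

theorem small_degree [FaithfulSMul G α] {a b c d : α} (h : Dist a b c d)
    (h6 : 6 ≤ Fintype.card α) (h7 : Fintype.card α ≤ 7) :
    (Fintype.card α = 6 ∧ Nat.card (Hs G a b c d) = 1) ∨
      (Fintype.card α = 7 ∧ Nat.card (Hs G a b c d) = 3) := by
  have hdvd : (Fintype.card α).descFactorial 4 * Nat.card (Hs G a b c d)
      ∣ Nat.factorial (Fintype.card α) := card_eq_descFactorial hyp.trans h ▸ card_dvd_factorial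
  have hodd := hyp.odd a b c d h
  obtain ⟨u, hu, hu1, ua, ub, uc, ud⟩ := exists_swap_pair hyp h
  obtain ⟨a', b', c', d', h', hab', hcd'⟩ := exists_two_cycles hyp h6 hu hu1
  have e := eq_of_U_V hyp h6 hu hu1 hu hu1 h h' ua uc ud hab' hcd'
  have hF := fix_le_three hyp hu hu1
  have hF2 : 2 ≤ (fix (α := α) u).card := by
    refine le_trans (le_of_eq (card_pair h.hcd).symm) (card_le_card ?_)
    simp [Finset.insert_subset_iff, mem_fix, uc, ud]
  set M := Nat.card (Hs G a b c d) with hM
  have hA : Nat.card (fx u (Hs G a b c d)) ∣ M :=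
    Subgroup.card_dvd_of_le inf_le_left
  have hB : Nat.card (fx u (Hs G a' b' c' d')) ∣ M := by
    rw [hM, card_Hs_eq hyp.trans h h']
    exact Subgroup.card_dvd_of_le inf_le_left
  rcases (show Fintype.card α = 6 ∨ Fintype.card α = 7 by omega) with hn | hn
  · left
    rw [hn] at hdvd
    have h720 : 360 * M ∣ 360 * 2 := by simpa [Nat.descFactorial, Nat.factorial] using hdvd
    have hM2 := Nat.le_of_dvd (by norm_num) (Nat.dvd_of_mul_dvd_mul_left (by norm_num) h720)
    obtain ⟨j, hj⟩ := hodd
    exact ⟨hn, by omega⟩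
  · right
    rw [hn] at hdvd e
    have h5040 : 840 * M ∣ 840 * 6 := by simpa [Nat.descFactorial, Nat.factorial] using hdvd
    have hM6 := Nat.dvd_of_mul_dvd_mul_left (by norm_num) h5040
    have hle := Nat.le_of_dvd (by norm_num) hM6
    obtain ⟨j, hj⟩ := hodd
    have hj2 : j ≤ 2 := by omega
    refine ⟨hn, ?_⟩
    interval_cases j
    · exfalso
      rw [hj] at hA hB
      rw [Nat.dvd_one.mp hA, Nat.dvd_one.mp hB] at e
      rcases (show (fix (α := α) u).card = 2 ∨ (fix (α := α) u).card = 3 by omega) with q | q <;>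
        rw [q] at e <;> norm_num at e
    · exact hj
    · rw [hj] at hM6; norm_num at hM6

set_option maxHeartbeats 1000000 in
theorem large_degree [FaithfulSMul G α] {a b c d : α} (h : Dist a b c d)
    (h8 : 8 ≤ Fintype.card α) :
    Fintype.card α = 11 ∧ Nat.card (Hs G a b c d) = 1 := by
  classical
  have h6 : 6 ≤ Fintype.card α := by omega
  obtain ⟨u, hu, hu1, ua, ub, uc, ud⟩ := exists_swap_pair hyp h
  obtain ⟨s, hs, -, sc, sd, sa, sb⟩ := exists_swap_pair hyp
    (⟨h.hcd, h.hac.symm, h.hbc.symm, h.had.symm, h.hbd.symm, h.hab⟩ : Dist c d a b)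
  obtain ⟨v, hv, huv, va, vb, vc, vd⟩ := exists_commuting hyp h hu hs
    (by rw [mul_smul, mul_smul, ua, sb, ub, sa]) (by rw [mul_smul, mul_smul, ub, sa, ua, sb])
    (by rw [mul_smul, mul_smul, uc, sc, ud]) (by rw [mul_smul, mul_smul, ud, sd, uc])
    (by
      intro p hp
      simp only [List.mem_cons, List.not_mem_nil, or_false] at hp ⊢
      rcases hp with rfl | rfl | rfl | rfl
      · exact Or.inl sa
      · exact Or.inr (Or.inl sb)
      · exact Or.inr (Or.inr (Or.inr sc))
      · exact Or.inr (Or.inr (Or.inl sd)))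
  rw [sa] at va
  rw [sb] at vb
  rw [sc] at vc
  rw [sd] at vd
  have hv1 : v ≠ 1 := by rintro rfl; exact h.hcd (by rw [← vc, one_smul])
  set z := u * v with hzdef
  have hz : z * z = 1 := by
    rw [hzdef]
    calc u * v * (u * v) = u * (v * u) * v := by group
      _ = (u * u) * (v * v) := by rw [← huv.eq]; group
      _ = 1 := by rw [hu, hv, one_mul]
  have za : z • a = b := by rw [hzdef, mul_smul, va, ua]
  have zc : z • c = d := by rw [hzdef, mul_smul, vc, ud]
  have hz1 : z ≠ 1 := by intro e; exact h.hab (by rw [← za, e, one_smul])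
  have hzu : Commute u z := (Commute.refl u).mul_right huv
  have hzv : Commute v z := huv.symm.mul_right (Commute.refl v)
  -- fixed points
  set Fu := fix (α := α) u with hFu
  set Fv := fix (α := α) v with hFv
  set Fz := fix (α := α) z with hFz
  set F := Fu.card with hF
  have hF3 : F ≤ 3 := fix_le_three hyp hu hu1
  have hFv_card : Fv.card = F := card_fix_eq hyp h6 hv hv1 hu hu1
  have hFz_card : Fz.card = F := card_fix_eq hyp h6 hz hz1 hu hu1
  have hcd_sub : ({c, d} : Finset α) ⊆ Fu := by
    simp [Finset.insert_subset_iff, hFu, mem_fix, uc, ud]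
  have hab_sub : ({a, b} : Finset α) ⊆ Fv := by
    simp [Finset.insert_subset_iff, hFv, mem_fix, va, vb]
  have hF2 : 2 ≤ F := by
    rw [hF]; exact le_trans (le_of_eq (card_pair h.hcd).symm) (card_le_card hcd_sub)
  -- a set of at most three points containing a swapped pair
  have three : ∀ (t r : G) (p q : α) (S : Finset α), r * r = 1 → Commute r t →
      S = fix (α := α) t → S.card ≤ 3 → p ≠ q → r • p = q → p ∈ S → q ∈ S →
      ∀ x ∈ S, x ∈ ({p, q} : Finset α) ∨ r • x = x := by
    intro t r p q S hr hrt hS hS3 hpq hrp hp hq x hx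
    by_contra hcon
    simp only [mem_insert, mem_singleton, not_or] at hcon
    obtain ⟨⟨hxp, hxq⟩, hrx⟩ := hcon
    have hrxS : r • x ∈ S := by
      rw [hS, mem_fix] at hx ⊢
      exact mem_fix_smul hrt hx
    have hrxp : r • x ≠ p := fun e => hxq (by rw [← hrp, ← e, ← mul_smul, hr, one_smul])
    have hrxq : r • x ≠ q := fun e => hxp (smul_left_cancel r (e.trans hrp.symm))
    have hsub : ({p, q, x, r • x} : Finset α) ⊆ S := by
      simp [Finset.insert_subset_iff, hp, hq, hx, hrxS]
    have h4 : ({p, q, x, r • x} : Finset α).card = 4 :=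
      Finset.card_eq_four.mpr ⟨p, q, x, r • x, hpq, Ne.symm hxp, Ne.symm hrxp, Ne.symm hxq,
        Ne.symm hrxq, Ne.symm hrx, rfl⟩
    have := card_le_card hsub
    omega
  have hFu_split : ∀ x ∈ Fu, x ∈ ({c, d} : Finset α) ∨ v • x = x :=
    three u v c d Fu hv huv.symm hFu hF3 h.hcd vc (hcd_sub (by simp)) (hcd_sub (by simp))
  have hFv_split : ∀ x ∈ Fv, x ∈ ({a, b} : Finset α) ∨ u • x = x :=
    three v u a b Fv hu huv hFv (hFv_card ▸ hF3) h.hab ua (hab_sub (by simp))
      (hab_sub (by simp))
  set I := Fu ∩ Fv with hI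
  have hI_card : I.card = F - 2 := by
    have : I = Fu \ {c, d} := by
      ext x
      simp only [hI, Finset.mem_inter, Finset.mem_sdiff, hFv, mem_fix]
      constructor
      · rintro ⟨h1, h2⟩
        refine ⟨h1, fun hx => ?_⟩
        simp only [mem_insert, mem_singleton] at hx
        rcases hx with rfl | rfl
        · exact h.hcd (h2.symm.trans vc)
        · exact h.hcd (vd.symm.trans h2)
      · rintro ⟨h1, h2⟩
        exact ⟨h1, (hFu_split x h1).resolve_left h2⟩
    rw [this, card_sdiff_of_subset hcd_sub, card_pair h.hcd]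
  have huz : Fu ∩ Fz = I := by
    ext x
    simp only [hI, Finset.mem_inter, hFu, hFv, hFz, mem_fix, hzdef, mul_smul]
    constructor
    · rintro ⟨h1, h2⟩
      refine ⟨h1, smul_left_cancel u (h2.trans h1.symm)⟩
    · rintro ⟨h1, h2⟩
      exact ⟨h1, by rw [h2, h1]⟩
  have hvz : Fv ∩ Fz = I := by
    ext x
    simp only [hI, Finset.mem_inter, hFu, hFv, hFz, mem_fix, hzdef, mul_smul]
    constructor
    · rintro ⟨h1, h2⟩
      exact ⟨by rwa [h1] at h2, h1⟩
    · rintro ⟨h1, h2⟩
      exact ⟨h2, by rw [h2, h1]⟩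
  have hU : (Fu ∪ Fv ∪ Fz).card = F + 4 := by
    have k1 := card_union_add_card_inter Fu Fv
    have k2 := card_union_add_card_inter (Fu ∪ Fv) Fz
    have k3 : (Fu ∪ Fv) ∩ Fz = I := by
      rw [Finset.union_inter_distrib_right, huz, hvz, Finset.union_self]
    rw [k3, hI_card, hFz_card] at k2
    rw [← hI, hI_card, hFv_card, ← hF] at k1
    omega
  set R := univ \ (Fu ∪ Fv ∪ Fz) with hR
  have hR_card : R.card = Fintype.card α - (F + 4) := by rw [hR, card_univ_sdiff, hU]
  obtain ⟨e, he⟩ := Finset.card_pos.mp (show 0 < R.card by omega)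
  have regular : ∀ x ∈ R, Dist x (u • x) (v • x) (z • x) ∧
      u • (v • x) = z • x ∧ u • (z • x) = v • x ∧ v • (u • x) = z • x ∧ v • (z • x) = u • x ∧
      z • (u • x) = v • x := by
    intro x hx
    simp only [hR, Finset.mem_sdiff, mem_univ, true_and, Finset.mem_union, not_or, hFu, hFv, hFz,
      mem_fix] at hx
    obtain ⟨⟨h1, h2⟩, h3⟩ := hx
    have r1 : u • (v • x) = z • x := by rw [hzdef, mul_smul]
    have r2 : u • (z • x) = v • x := by rw [← r1, ← mul_smul, hu, one_smul]
    have r3 : v • (u • x) = z • x := by rw [← mul_smul, ← huv.eq, hzdef]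
    have r4 : v • (z • x) = u • x := by rw [← r3, ← mul_smul, hv, one_smul]
    have r5 : z • (u • x) = v • x := by rw [← mul_smul, ← hzu.eq, mul_smul, r2]
    refine ⟨⟨Ne.symm h1, Ne.symm h2, Ne.symm h3, fun q => h3 ?_, fun q => h2 ?_, fun q => h1 ?_⟩,
      r1, r2, r3, r4, r5⟩
    · rw [← r1, ← q, ← mul_smul, hu, one_smul]
    · have := congrArg (u • ·) q
      simp only [r2, ← mul_smul, hu, one_smul] at this
      exact this.symm
    · have := congrArg (v • ·) q
      simp only [r4, ← mul_smul, hv, one_smul] at this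
      exact this.symm
  obtain ⟨hO, e1, e2, e3, e4, e5⟩ := regular e he
  set H := Hs G a b c d with hH
  set K := Hs G e (u • e) (v • e) (z • e) with hK
  -- counting in the centraliser of one involution
  set A := Nat.card (fx u H) with hA
  set B := Nat.card (fx z H) with hB
  set k := F * F - F with hk
  set w := Fintype.card α - F with hw
  have hkA : k * A = (w - 2) * B :=
    eq_of_U_V hyp h6 hu hu1 hz hz1 h h ua uc ud za zc
  have hk0 : 0 < k := by
    rcases (show F = 2 ∨ F = 3 by omega) with q | q <;> rw [hk, q] <;> norm_num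
  have hA' : Nat.card (fx v H) = A := by
    have q := eq_of_U_V hyp h6 hv hv1 hz hz1
      (⟨h.hcd, h.hac.symm, h.hbc.symm, h.had.symm, h.hbd.symm, h.hab⟩ : Dist c d a b) h
      vc va vb za zc
    rw [← hFv, hFv_card, Hs_swap a b c d, ← hk, ← hw, ← hH, ← hB, ← hkA] at q
    exact Nat.eq_of_mul_eq_mul_left hk0 q
  have hBK : ∀ (t : G) {p q r s' : α}, t * t = 1 → t ≠ 1 → Dist p q r s' → t • p = q →
      t • r = s' → Hs G p q r s' = K → Nat.card (fx t K) = B := by
    intro t p q r s' ht ht1 hd' hpq hrs hKeq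
    have q1 := eq_of_U_V hyp h6 hu hu1 ht ht1 h hd' ua uc ud hpq hrs
    rw [hKeq, ← hFu, ← hF, ← hk, ← hw, ← hA, hkA] at q1
    exact (Nat.eq_of_mul_eq_mul_left (by omega) q1).symm
  have hBu : Nat.card (fx u K) = B := hBK u hu hu1 hO rfl e1 hK.symm
  have hBv : Nat.card (fx v K) = B :=
    hBK v hv hv1 (⟨hO.hac, hO.hab, hO.had, hO.hbc.symm, hO.hcd, hO.hbd⟩ :
      Dist e (v • e) (u • e) (z • e)) rfl e3 (by ext g; simp only [hK, mem_Hs]; tauto)
  have hBz : Nat.card (fx z K) = B :=
    hBK z hz hz1 (⟨hO.had, hO.hab, hO.hac, hO.hbd.symm, hO.hcd.symm, hO.hbc⟩ :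
      Dist e (z • e) (u • e) (v • e)) rfl e5 (by ext g; simp only [hK, mem_Hs]; tauto)
  set C' := Nat.card ↥(fx u H ⊓ fx v H) with hC'
  set C := Nat.card ↥(fx u K ⊓ fx v K) with hC
  have hnuH : ∀ g ∈ H, u * g * u⁻¹ ∈ H := conj_mem_Hs hu (by
    intro p hp
    simp only [List.mem_cons, List.not_mem_nil, or_false] at hp ⊢
    rcases hp with rfl | rfl | rfl | rfl
    · exact Or.inr (Or.inl ua)
    · exact Or.inl ub
    · exact Or.inr (Or.inr (Or.inl uc))
    · exact Or.inr (Or.inr (Or.inr ud)))
  have hnvH : ∀ g ∈ H, v * g * v⁻¹ ∈ H := conj_mem_Hs hv (by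
    intro p hp
    simp only [List.mem_cons, List.not_mem_nil, or_false] at hp ⊢
    rcases hp with rfl | rfl | rfl | rfl
    · exact Or.inl va
    · exact Or.inr (Or.inl vb)
    · exact Or.inr (Or.inr (Or.inr vc))
    · exact Or.inr (Or.inr (Or.inl vd)))
  have hnuK : ∀ g ∈ K, u * g * u⁻¹ ∈ K := conj_mem_Hs hu (by
    intro p hp
    simp only [List.mem_cons, List.not_mem_nil, or_false] at hp ⊢
    rcases hp with rfl | rfl | rfl | rfl
    · exact Or.inr (Or.inl rfl)
    · exact Or.inl (by rw [← mul_smul, hu, one_smul])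
    · exact Or.inr (Or.inr (Or.inr e1))
    · exact Or.inr (Or.inr (Or.inl e2)))
  have hnvK : ∀ g ∈ K, v * g * v⁻¹ ∈ K := conj_mem_Hs hv (by
    intro p hp
    simp only [List.mem_cons, List.not_mem_nil, or_false] at hp ⊢
    rcases hp with rfl | rfl | rfl | rfl
    · exact Or.inr (Or.inr (Or.inl rfl))
    · exact Or.inr (Or.inr (Or.inr e3))
    · exact Or.inl (by rw [← mul_smul, hv, one_smul])
    · exact Or.inr (Or.inl e4))
  have fH := card_four (hyp.odd a b c d h) hu hv huv.eq hnuH hnvH
  have fK := card_four (hyp.odd _ _ _ _ hO) hu hv huv.eq hnuK hnvK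
  rw [← hzdef, ← hC', ← hA, hA', ← hB] at fH
  rw [← hzdef, ← hC, hBu, hBv, hBz] at fK
  have hHK : Nat.card H = Nat.card K := card_Hs_eq hyp.trans h hO
  rw [← hHK] at fK
  have hrel : k * C' = (w - 2) * C := by
    refine Nat.pow_left_injective (n := 2) (by norm_num) ?_
    show (k * C') ^ 2 = ((w - 2) * C) ^ 2
    apply Nat.eq_of_mul_eq_mul_left (Nat.card_pos (α := H))
    calc Nat.card H * (k * C') ^ 2 = k ^ 2 * (Nat.card H * C' ^ 2) := by ring
      _ = (k * A) ^ 2 * B := by rw [fH]; ring
      _ = (w - 2) ^ 2 * (B * B * B) := by rw [hkA]; ring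
      _ = Nat.card H * ((w - 2) * C) ^ 2 := by rw [← fK]; ring
  -- the centraliser of the four-group
  let W : Subgroup G := Subgroup.centralizer {u} ⊓ Subgroup.centralizer {v}
  have memW : ∀ g, g ∈ W ↔ g * u = u * g ∧ g * v = v * g := fun g => by
    simp [W, Subgroup.mem_inf, Subgroup.mem_centralizer_singleton_iff]
  have hW1 : Nat.card W = R.card * C := by
    refine card_eq_orbit_mul W e R (fun y => ?_) _ (fun g => ?_)
    · constructor
      · intro hy
        obtain ⟨hO', y1, y2, y3, y4, y5⟩ := regular y hy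
        have uu : ∀ p : α, u • (u • p) = p := fun p => by rw [← mul_smul, hu, one_smul]
        obtain ⟨g, hg, g1, g2, g3, g4⟩ := exists_centralizer_map hyp hu hO hO'
          (fun g g1 g2 g3 g4 => ⟨g2, by rw [uu, uu, g1], by rw [e1, y1, g4], by rw [e2, y2, g3]⟩)
        have hgv : (g * v * g⁻¹) * (g * v * g⁻¹) = 1 := by
          calc (g * v * g⁻¹) * (g * v * g⁻¹) = g * (v * v) * g⁻¹ := by group
            _ = 1 := by rw [hv]; group
        have vv : ∀ p : α, v • (v • p) = p := fun p => by rw [← mul_smul, hv, one_smul]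
        have key : ∀ p p' : α, g • p = p' → g • (v • p) = v • p' →
            (g * v * g⁻¹) • p' = v • p' := by
          intro p p' hp hq
          rw [← hq, mul_smul, mul_smul, ← hp, inv_smul_smul]
        obtain ⟨j, hj, hjv, hju⟩ := coset_conj hyp hO' hgv hv (key e y g1 g3)
          (key _ _ g2 (by rw [e3, y3, g4]))
          (key _ _ g3 (by rw [vv, vv, g1]))
          (key _ _ g4 (by rw [e4, y4, g2]))
        have hju' : Commute u j := hju u ((hg.symm.mul_right huv).mul_right hg.symm.inv_right) huv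
        refine ⟨j * g, (memW _).mpr ⟨?_, ?_⟩, by rw [mul_smul, g1, hj.1]⟩
        · exact (hju'.symm.mul_left hg).eq
        · conv_rhs => rw [← hjv]
          group
      · rintro ⟨g, hg, rfl⟩
        obtain ⟨gu, gv⟩ := (memW g).mp hg
        have gz : Commute g z := Commute.mul_right gu gv
        have back : ∀ t : G, Commute g t → t • (g • e) = g • e → t • e = e := by
          intro t ht hfix
          rw [← mul_smul, ← ht.eq, mul_smul] at hfix
          exact smul_left_cancel g hfix
        simp only [hR, Finset.mem_sdiff, mem_univ, true_and, Finset.mem_union, not_or, hFu, hFv,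
          hFz, mem_fix] at he ⊢
        exact ⟨⟨fun q => he.1.1 (back u gu q), fun q => he.1.2 (back v gv q)⟩,
          fun q => he.2 (back z gz q)⟩
    · rw [Subgroup.mem_inf, mem_fx, mem_fx, memW, hK, mem_Hs]
      constructor
      · rintro ⟨⟨⟨g1, -⟩, gu⟩, -, gv⟩
        exact ⟨⟨gu.symm, gv.symm⟩, g1⟩
      · rintro ⟨⟨gu, gv⟩, g1⟩
        have gz : Commute g z := Commute.mul_right gu gv
        have : g • e = e ∧ g • u • e = u • e ∧ g • v • e = v • e ∧ g • z • e = z • e :=
          ⟨g1, by rw [← mul_smul, gu, mul_smul, g1], by rw [← mul_smul, gv, mul_smul, g1],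
            by rw [← mul_smul, gz.eq, mul_smul, g1]⟩
        exact ⟨⟨this, gu.symm⟩, this, gv.symm⟩
  have hW2 : Nat.card W = 4 * C' := by
    have hS4 : (({a, b} : Finset α) ×ˢ ({c, d} : Finset α)).card = 4 := by
      rw [card_product, card_pair h.hab, card_pair h.hcd]
    rw [← hS4]
    refine card_eq_orbit_mul W (a, c) _ (fun y => ?_) _ (fun g => ?_)
    · obtain ⟨p, q⟩ := y
      constructor
      · intro hy
        simp only [mem_product, mem_insert, mem_singleton] at hy
        have hzW : z ∈ W := (memW z).mpr ⟨hzu.eq.symm, hzv.eq.symm⟩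
        have huW : u ∈ W := (memW u).mpr ⟨rfl, huv.eq⟩
        have hvW : v ∈ W := (memW v).mpr ⟨huv.eq.symm, rfl⟩
        obtain ⟨rfl | rfl, rfl | rfl⟩ := hy
        · exact ⟨1, one_mem _, one_smul _ _⟩
        · exact ⟨v, hvW, by rw [Prod.smul_mk, va, vc]⟩
        · exact ⟨u, huW, by rw [Prod.smul_mk, ua, uc]⟩
        · exact ⟨z, hzW, by rw [Prod.smul_mk, za, zc]⟩
      · rintro ⟨g, hg, hge⟩
        obtain ⟨gu, gv⟩ := (memW g).mp hg
        simp only [Prod.smul_mk, Prod.mk.injEq] at hge
        obtain ⟨rfl, rfl⟩ := hge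
        refine mem_product.mpr ⟨?_, ?_⟩
        · refine (hFv_split _ (mem_fix.mpr (mem_fix_smul gv va))).resolve_right fun q => h.hab ?_
          rw [← mul_smul, ← gu, mul_smul, ua] at q
          exact (smul_left_cancel g q).symm
        · refine (hFu_split _ (mem_fix.mpr (mem_fix_smul gu uc))).resolve_right fun q => h.hcd ?_
          rw [← mul_smul, ← gv, mul_smul, vc] at q
          exact (smul_left_cancel g q).symm
    · rw [Subgroup.mem_inf, mem_fx, mem_fx, memW, hH, mem_Hs]
      constructor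
      · rintro ⟨⟨⟨g1, -, g3, -⟩, gu⟩, -, gv⟩
        exact ⟨⟨gu.symm, gv.symm⟩, by rw [Prod.smul_mk, g1, g3]⟩
      · rintro ⟨⟨gu, gv⟩, gac⟩
        simp only [Prod.smul_mk, Prod.mk.injEq] at gac
        have : g • a = a ∧ g • b = b ∧ g • c = c ∧ g • d = d :=
          ⟨gac.1, by rw [← ua, ← mul_smul, gu, mul_smul, gac.1], gac.2,
            by rw [← vc, ← mul_smul, gv, mul_smul, gac.2]⟩
        exact ⟨⟨this, gu.symm⟩, this, gv.symm⟩
  have h4 : 4 * C' = (Fintype.card α - (F + 4)) * C := by rw [← hW2, hW1, hR_card]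
  have hC0 : 0 < C := Nat.card_pos
  have hlin : k * (Fintype.card α - (F + 4)) = 4 * (w - 2) := by
    apply Nat.eq_of_mul_eq_mul_right hC0
    rw [mul_assoc, ← h4, mul_left_comm, hrel, mul_assoc]
  obtain ⟨hF_eq, hn⟩ : F = 3 ∧ Fintype.card α = 11 := by
    rcases (show F = 2 ∨ F = 3 by omega) with q | q <;>
      rw [hk, hw, q] at hlin <;> norm_num at hlin <;> omega
  refine ⟨hn, ?_⟩
  -- degree eleven
  have hCeq : C' = C := by rw [hn, hF_eq] at h4; omega
  have hC1 : C = 1 := by
    rw [hC, Subgroup.card_eq_one, eq_bot_iff]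
    intro g hg
    obtain ⟨hgu, hgv⟩ := Subgroup.mem_inf.mp hg
    obtain ⟨hgK, gu⟩ := mem_fx.mp hgu
    obtain ⟨-, gv⟩ := mem_fx.mp hgv
    have gu' : Commute g u := gu.symm
    have gv' : Commute g v := gv.symm
    have gz : Commute g z := gu'.mul_right gv'
    have hoddK : Odd (Nat.card K) := hyp.odd _ _ _ _ hO
    have inv : ∀ t : G, Commute g t → ∀ p ∈ fix (α := α) t, g • p ∈ fix (α := α) t :=
      fun t ht p hp => mem_fix.mpr (mem_fix_smul ht (mem_fix.mp hp))
    have invI : ∀ p ∈ I, g • p ∈ I := fun p hp => by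
      rw [hI, Finset.mem_inter] at hp ⊢
      exact ⟨inv u gu' p hp.1, inv v gv' p hp.2⟩
    have invI' : ∀ p, g • p ∈ I → p ∈ I := fun p hp => by
      rw [hI, Finset.mem_inter, hFu, hFv, mem_fix, mem_fix] at hp ⊢
      constructor
      · have := hp.1; rw [← mul_smul, ← gu'.eq, mul_smul] at this
        exact smul_left_cancel g this
      · have := hp.2; rw [← mul_smul, ← gv'.eq, mul_smul] at this
        exact smul_left_cancel g this
    have fixI : ∀ p ∈ I, g • p = p := fun p =>
      fix_small hoddK hgK I (by omega) invI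
    have fixF : ∀ (t : G) (S : Finset α), Commute g t → S = fix (α := α) t → S.card = F → I ⊆ S →
        ∀ p ∈ S, g • p = p := by
      intro t S ht hS hSc hIS p hp
      by_cases hpI : p ∈ I
      · exact fixI p hpI
      refine fix_small hoddK hgK (S \ I) (by rw [card_sdiff_of_subset hIS]; omega) ?_
        (Finset.mem_sdiff.mpr ⟨hp, hpI⟩)
      intro q hq
      rw [Finset.mem_sdiff] at hq ⊢
      exact ⟨hS ▸ inv t ht q (hS ▸ hq.1), fun hc => hq.2 (invI' q hc)⟩
    have hRO : R = {e, u • e, v • e, z • e} := by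
      refine (Finset.eq_of_subset_of_card_le ?_ ?_).symm
      · intro p hp
        simp only [mem_insert, mem_singleton] at hp
        have move : ∀ t r : G, Commute t r → ∀ x : α, r • (t • x) = t • x → r • x = x := by
          intro t r htr x hfix
          rw [← mul_smul, ← htr.eq, mul_smul] at hfix
          exact smul_left_cancel t hfix
        simp only [hR, Finset.mem_sdiff, mem_univ, true_and, Finset.mem_union, not_or, hFu, hFv,
          hFz, mem_fix] at he ⊢
        rcases hp with rfl | rfl | rfl | rfl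
        · exact he
        · exact ⟨⟨fun q => he.1.1 (move u u rfl e q), fun q => he.1.2 (move u v huv e q)⟩,
            fun q => he.2 (move u z hzu e q)⟩
        · exact ⟨⟨fun q => he.1.1 (move v u huv.symm e q), fun q => he.1.2 (move v v rfl e q)⟩,
            fun q => he.2 (move v z hzv e q)⟩
        · exact ⟨⟨fun q => he.1.1 (move z u hzu.symm e q), fun q => he.1.2 (move z v hzv.symm e q)⟩,
            fun q => he.2 (move z z rfl e q)⟩
      · have hc4 : ({e, u • e, v • e, z • e} : Finset α).card = 4 :=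
          Finset.card_eq_four.mpr ⟨_, _, _, _, hO.hab, hO.hac, hO.had, hO.hbc, hO.hbd, hO.hcd, rfl⟩
        omega
    rw [Subgroup.mem_bot]
    apply FaithfulSMul.eq_of_smul_eq_smul (α := α)
    intro p
    rw [one_smul]
    by_cases hp : p ∈ R
    · rw [hRO] at hp
      simp only [mem_insert, mem_singleton] at hp
      obtain ⟨k1, k2, k3, k4⟩ := hgK
      rcases hp with rfl | rfl | rfl | rfl
      exacts [k1, k2, k3, k4]
    · simp only [hR, Finset.mem_sdiff, mem_univ, true_and, not_not, Finset.mem_union] at hp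
      rcases hp with (hp | hp) | hp
      · exact fixF u Fu gu' hFu rfl (by rw [hI]; exact inter_subset_left) p hp
      · exact fixF v Fv gv' hFv hFv_card (by rw [hI]; exact inter_subset_right) p hp
      · exact fixF z Fz gz hFz hFz_card (by rw [← huz]; exact inter_subset_right) p hp
  rw [hC1, one_pow, mul_one] at fK
  have hdvd : (Fintype.card α).descFactorial 4 * Nat.card H ∣ Nat.factorial (Fintype.card α) :=
    card_eq_descFactorial hyp.trans h ▸ card_dvd_factorial
  rw [hn, fK] at hdvd
  have h11 : 7920 * (B * B * B) ∣ 7920 * 5040 := by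
    simpa [Nat.descFactorial, Nat.factorial] using hdvd
  have hB3 := Nat.dvd_of_mul_dvd_mul_left (by norm_num) h11
  have hBle : B ≤ 17 := by
    by_contra hlt
    have := Nat.le_of_dvd (by norm_num) hB3
    have : 18 * 18 * 18 ≤ B * B * B := by gcongr <;> omega
    omega
  have hBodd : Odd B :=
    (hyp.odd a b c d h).of_dvd_nat (Subgroup.card_dvd_of_le inf_le_left)
  obtain ⟨j, hj⟩ := hBodd
  have hj8 : j ≤ 8 := by omega
  rw [fK, hj]
  interval_cases j <;> first | rfl | (rw [hj] at hB3; norm_num at hB3)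

end Cfsg.Agent.Lib.BC77.Hall4
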